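import Cfsg.Agent.Lib.SolvCentAbelian.Simple
import Cfsg.Agent.Lib.ChzTwoNil.Basic

/-!
Reduction to simple groups.

Blueprint: `blueprint/bender/S3188.md`.
-/

set_option autoImplicit false
set_option linter.unusedSectionVars false
set_option linter.style.haveILetI false

namespace CfsgLib.SolvCentAbelian

open Cfsg Subgroup

universe u

theorem solvable_sub {Y : Type u} [Group Y] {H K : Subgroup Y} (h : H ≤ K) (hK : Group.IsSolvable K) :
    Group.IsSolvable H :=
  haveI := hK; Group.isSolvable_of_isSolvable_injective (Subgroup.inclusion_injective h)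

theorem solvable_sub_top {Y : Type u} [Group Y] {H : Subgroup Y} (h : H = ⊤) (hK : Group.IsSolvable H) :
    Group.IsSolvable Y :=
  haveI := hK; Group.isSolvable_of_surjective (f := H.subtype) fun y => ⟨⟨y, h ▸ Subgroup.mem_top y⟩, rfl⟩

/-- Without cores there are no solvable normal subgroups. -/
theorem solvable_normal_bot {Y : Type u} [Group Y] [Finite Y] (hO : oddCore Y = ⊥) (h2 : pCore 2 Y = ⊥)
    (R : Subgroup Y) (hR : R.Normal) (hs : Group.IsSolvable R) : R = ⊥ := by
  haveI : Fact (Nat.Prime 2) := ⟨Nat.prime_two⟩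
  by_contra hne
  obtain ⟨M, hMR, hM⟩ := Finite.exists_le_minimal
    (p := fun M : Subgroup Y => M.Normal ∧ M ≤ R ∧ M ≠ ⊥) ⟨hR, le_rfl, hne⟩
  obtain ⟨⟨hMn, -, hM1⟩, hmin⟩ := hM
  haveI := hMn
  haveI := solvable_sub hMR hs
  have hcomm : ∀ a ∈ M, ∀ b ∈ M, a * b = b * a := by
    by_contra hab
    have hD : ⁅M, M⁆ ≠ ⊥ := fun e => hab fun a ha b hb => commutatorElement_eq_one_iff_mul_comm.mp
      (Subgroup.mem_bot.mp (e ▸ Subgroup.commutator_mem_commutator ha hb))
    have hle : ⁅M, M⁆ ≤ M := Subgroup.commutator_le_right M M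
    have heq : ⁅M, M⁆ = M := le_antisymm hle (hmin ⟨inferInstance, hle.trans hMR, hD⟩ hle)
    have hperf : commutator M = ⊤ := by
      apply Subgroup.map_injective M.subtype_injective
      rw [map_subtype_commutator, heq, ← MonoidHom.range_eq_map, Subgroup.range_subtype]
    haveI : Nontrivial M := (Subgroup.nontrivial_iff_ne_bot M).mpr hM1
    exact (Group.IsSolvable.commutator_lt_top_of_nontrivial (G := M)).ne hperf
  let T : Subgroup Y :=
    { carrier := {x | x ∈ M ∧ ∃ k : ℕ, x ^ 2 ^ k = 1}
      one_mem' := ⟨M.one_mem, 0, one_pow _⟩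
      mul_mem' := fun {a b} ha hb => ⟨M.mul_mem ha.1 hb.1, by
        obtain ⟨⟨i, hi⟩, ⟨j, hj⟩⟩ := And.intro ha.2 hb.2
        refine ⟨i + j, ?_⟩
        rw [Commute.mul_pow (hcomm a ha.1 b hb.1), pow_add, pow_mul, hi, one_pow, one_mul, mul_comm (2 ^ i),
          pow_mul, hj, one_pow]⟩
      inv_mem' := fun {a} ha => ⟨M.inv_mem ha.1, by
        obtain ⟨i, hi⟩ := ha.2
        exact ⟨i, by rw [inv_pow, hi, inv_one]⟩⟩ }
  haveI : T.Normal := ⟨fun x hx g => ⟨hMn.conj_mem x hx.1 g, by
    obtain ⟨i, hi⟩ := hx.2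
    exact ⟨i, by rw [conj_pow, hi, mul_one, mul_inv_cancel]⟩⟩⟩
  have hT : T = ⊥ := le_bot_iff.mp (h2 ▸ le_sSup ⟨inferInstance, fun x => by
    obtain ⟨i, hi⟩ := x.2.2
    exact ⟨i, Subtype.ext hi⟩⟩)
  refine hM1 (le_bot_iff.mp (hO ▸ CfsgLib.le_oddCore (Nat.not_even_iff_odd.mp fun he => ?_)))
  obtain ⟨x, hx⟩ := exists_prime_orderOf_dvd_card' (G := M) 2 (even_iff_two_dvd.mp he)
  have h1 : (x : Y) ∈ T := ⟨x.2, 1, by
    rw [pow_one, ← hx, ← Subgroup.orderOf_coe]
    exact pow_orderOf_eq_one _⟩
  rw [hT, Subgroup.mem_bot] at h1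
  rw [show x = 1 from Subtype.ext h1, orderOf_one] at hx
  norm_num at hx

/-- A non-solvable group of this kind without odd core has no non-identity normal 2-subgroup. -/
theorem pCore_bot {X : Type u} [Group X] [Finite X] (h : Hyp X) (hns : ¬ Group.IsSolvable X) : pCore 2 X = ⊥ := by
  haveI : Fact (Nat.Prime 2) := ⟨Nat.prime_two⟩
  by_contra hne
  set P := pCore 2 X
  haveI : Nontrivial P := (Subgroup.nontrivial_iff_ne_bot P).mpr hne
  obtain ⟨n, hn, hc⟩ := (CfsgLib.isPGroup_pCore (G := X) 2).nontrivial_iff_card.mp inferInstance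
  obtain ⟨t, ht⟩ := exists_prime_orderOf_dvd_card' (G := P) 2 (hc ▸ dvd_pow_self 2 hn.ne')
  haveI : P.Normal := inferInstance
  set C := centralizer (P : Set X)
  have hCs : Group.IsSolvable C := solvable_sub
    (Subgroup.centralizer_le (Set.singleton_subset_iff.mpr t.2)) (h.solv t ((Subgroup.orderOf_coe t).trans ht))
  obtain ⟨S⟩ : Nonempty (Sylow 2 X) := inferInstance
  have hSC : (S : Subgroup X) ≤ C := fun s hs => Subgroup.mem_centralizer_iff.mpr fun p hp =>
    (h.comm S s hs p (CfsgLib.pCore_le_sylow S hp)).symm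
  haveI : Group.IsSolvable C := hCs
  haveI : Group.IsSolvable (X ⧸ C) := CITQuot.solvable_of_odd (by
    rw [← Subgroup.index_eq_card]
    exact (Nat.not_even_iff_odd.mp fun he => S.not_dvd_index
      (he.two_dvd.trans (Subgroup.index_dvd_of_le hSC))))
  exact hns (Group.isSolvable_of_ker_le_range C.subtype (QuotientGroup.mk' C)
    (by rw [QuotientGroup.ker_mk', Subgroup.range_subtype]))

/-- The structure of a group without odd core. -/
theorem core_free (hA : CfsgLib.Bender.Assembly.GoodAll.{u}) {X : Type u} [Group X] [Finite X] (h : Hyp X)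
    (hO : oddCore X = ⊥) (hns : ¬ Group.IsSolvable X) :
    ∃ N : Subgroup X, N.Normal ∧ IsTarget N ∧ centralizer (N : Set X) = ⊥ := by
  haveI : Fact (Nat.Prime 2) := ⟨Nat.prime_two⟩
  have h2 := pCore_bot h hns
  haveI : Nontrivial X := not_subsingleton_iff_nontrivial.mp fun _ => hns (Group.isSolvable_of_comm fun a b => Subsingleton.elim _ _)
  obtain ⟨N, -, hNmin⟩ := Finite.exists_le_minimal (p := fun M : Subgroup X => M.Normal ∧ M ≠ ⊥)
    (a := ⊤) ⟨inferInstance, top_ne_bot⟩
  obtain ⟨⟨hNn, hN1⟩, hmin⟩ := hNmin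
  haveI := hNn
  have hbot := solvable_normal_bot hO h2
  have hNs : ¬ Group.IsSolvable N := fun hs => hN1 (hbot N hNn hs)
  refine ⟨N, hNn, ?_, ?_⟩
  · have hON : oddCore N = ⊥ := (Subgroup.map_eq_bot_iff_of_injective _ N.subtype_injective).mp
      (hbot _ inferInstance (by
        haveI : Group.IsSolvable (oddCore N) := CITQuot.solvable_of_odd CfsgLib.odd_card_oddCore
        exact Group.isSolvable_of_surjective
          (f := ((oddCore N).equivMapOfInjective N.subtype N.subtype_injective).toMonoidHom) (MulEquiv.surjective _)))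
    have h2N : pCore 2 N = ⊥ := (Subgroup.map_eq_bot_iff_of_injective _ N.subtype_injective).mp
      (hbot _ inferInstance (by
        haveI : Group.IsNilpotent (pCore 2 N) := (CfsgLib.isPGroup_pCore (G := N) 2).isNilpotent
        exact Group.isSolvable_of_surjective
          (f := ((pCore 2 N).equivMapOfInjective N.subtype N.subtype_injective).toMonoidHom) (MulEquiv.surjective _)))
    haveI : Nontrivial N := (Subgroup.nontrivial_iff_ne_bot N).mpr hN1
    haveI : IsSimpleGroup N := by
      refine ⟨fun K hK => ?_⟩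
      by_cases hK1 : K = ⊥
      · exact Or.inl hK1
      right
      obtain ⟨M, hMK, hMmin⟩ := Finite.exists_le_minimal (p := fun M : Subgroup N => M.Normal ∧ M ≠ ⊥) ⟨hK, hK1⟩
      obtain ⟨⟨hMn, hM1⟩, hminM⟩ := hMmin
      have hMs : ¬ Group.IsSolvable M := fun hs => hM1 (solvable_normal_bot hON h2N M hMn hs)
      have hnorm : (M.map N.subtype).Normal := by
        constructor
        rintro _ ⟨m, hm, rfl⟩ g
        let M' : Subgroup N := M.map (MulAut.conjNormal (H := N) g).toMonoidHom
        haveI := hMn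
        haveI : M'.Normal := hMn.map _ (MulEquiv.surjective _)
        by_contra hgm
        have hne : M' ≠ M := fun e => hgm ⟨MulAut.conjNormal g m, e ▸ ⟨m, hm, rfl⟩, rfl⟩
        have hdis : M ⊓ M' = ⊥ := by
          by_contra hd
          have hle : M ≤ M ⊓ M' := hminM ⟨inferInstance, hd⟩ inf_le_left
          have hcard : Nat.card M' = Nat.card M := Subgroup.card_map_of_injective (MulEquiv.injective _)
          exact hne (Subgroup.eq_of_le_of_card_ge (hle.trans inf_le_right) hcard.le).symm
        have hev : 2 ∣ Nat.card M' := by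
          rw [Subgroup.card_map_of_injective (MulEquiv.injective _)]
          by_contra hd
          exact hMs (CITQuot.solvable_of_odd (Nat.odd_iff.mpr (Nat.two_dvd_ne_zero.mp hd)))
        obtain ⟨t, ht⟩ := exists_prime_orderOf_dvd_card' (G := M') 2 hev
        refine hMs ?_
        have hle : M.map N.subtype ≤ centralizer ({((t : N) : X)} : Set X) := by
          rintro _ ⟨y, hy, rfl⟩
          exact mem_centralizer_singleton_iff.mpr (congrArg Subtype.val (Subgroup.commute_of_normal_of_disjoint
            M M' inferInstance inferInstance (disjoint_iff.mpr hdis) y t.1 hy t.2).eq)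
        haveI := solvable_sub hle (h.solv _ (((Subgroup.orderOf_coe (t : N)).trans (Subgroup.orderOf_coe t)).trans ht))
        exact Group.isSolvable_of_surjective (f := (M.equivMapOfInjective N.subtype N.subtype_injective).symm.toMonoidHom)
          (MulEquiv.surjective _)
      have h3 := hmin ⟨hnorm, fun e => hM1 ((Subgroup.map_eq_bot_iff_of_injective _ N.subtype_injective).mp e)⟩
        (Subgroup.map_subtype_le M)
      refine top_unique fun x _ => hMK ?_
      obtain ⟨m, hm, he⟩ := h3 x.2
      rwa [← Subtype.ext he]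
    have hna : ¬ IsMulCommutative N := fun hc => hNs (Group.isSolvable_of_comm fun a b => hc.is_comm.comm a b)
    refine simple_target hA hna ⟨fun P a ha b hb => ?_, fun t ht => ?_⟩
    · obtain ⟨T, hT⟩ := (P.2.map N.subtype).exists_le_sylow
      exact Subtype.ext (h.comm T _ (hT ⟨a, ha, rfl⟩) _ (hT ⟨b, hb, rfl⟩))
    · haveI := h.solv (t : X) ((Subgroup.orderOf_coe t).trans ht)
      exact Group.isSolvable_of_isSolvable_injective (G' := centralizer ({(t : X)} : Set X))
        (f := (N.subtype.comp (centralizer ({t} : Set N)).subtype).codRestrict _ fun x =>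
          mem_centralizer_singleton_iff.mpr (congrArg Subtype.val (mem_centralizer_singleton_iff.mp x.2)))
        (fun a b e => Subtype.ext (Subtype.ext (Subtype.ext_iff.mp e :)))
  · haveI : (centralizer (N : Set X)).Normal := inferInstance
    refine le_bot_iff.mp (hO ▸ CfsgLib.le_oddCore (Nat.not_even_iff_odd.mp fun he => ?_))
    obtain ⟨t, ht⟩ := exists_prime_orderOf_dvd_card' (G := centralizer (N : Set X)) 2 (even_iff_two_dvd.mp he)
    refine hNs (solvable_sub ?_ (h.solv t ((Subgroup.orderOf_coe t).trans ht)))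
    exact fun n hn => mem_centralizer_singleton_iff.mpr (Subgroup.mem_centralizer_iff.mp t.2 n hn)

/-- The theorem. -/
theorem main (hA : CfsgLib.Bender.Assembly.GoodAll.{u}) {G : Type u} [Group G] [Finite G]
    (S : Sylow 2 G) (hS : IsMulCommutative ↥(S : Subgroup G))
    (hC : ∀ t : G, orderOf t = 2 → Group.IsSolvable ↥(Subgroup.centralizer ({t} : Set G))) :
    Group.IsSolvable G ∨
      ∃ (F : Type) (_ : Field F) (_ : Fintype F),
        (((Fintype.card F % 8 = 3 ∨ Fintype.card F % 8 = 5) ∧ 5 ≤ Fintype.card F) ∨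
          (∃ n : ℕ, 2 ≤ n ∧ Fintype.card F = 2 ^ n)) ∧
        ∃ N : Subgroup (G ⧸ Cfsg.oddCore G), N.Normal ∧
          Nonempty (↥N ≃* Matrix.ProjectiveSpecialLinearGroup (Fin 2) F) ∧
          Subgroup.centralizer (N : Set (G ⧸ Cfsg.oddCore G)) = ⊥ := by
  haveI : Fact (Nat.Prime 2) := ⟨Nat.prime_two⟩
  by_cases hs : Group.IsSolvable G
  · exact Or.inl hs
  right
  set O := oddCore G with hO
  set π := QuotientGroup.mk' O with hπ
  have hodd : Odd (Nat.card O) := CfsgLib.odd_card_oddCore
  have hq : Hyp (G ⧸ O) := by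
    refine Hyp.of_sylow (S.mapSurjective (f := π) (QuotientGroup.mk'_surjective O)) ⟨⟨?_⟩⟩ fun q hq => ?_
    · rintro ⟨_, a, ha, rfl⟩ ⟨_, b, hb, rfl⟩
      refine Subtype.ext ?_
      show π a * π b = π b * π a
      rw [← map_mul, ← map_mul, show a * b = b * a from congrArg Subtype.val (hS.is_comm.comm ⟨a, ha⟩ ⟨b, hb⟩)]
    · obtain ⟨t, ht, rfl⟩ := ChzTwoNil.lift_involution O hodd hq
      haveI := hC t ht
      have hle : centralizer ({π t} : Set (G ⧸ O)) ≤ (centralizer ({t} : Set G)).map π := by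
        intro y hy
        obtain ⟨g, rfl⟩ := QuotientGroup.mk'_surjective O y
        have hti := ChzTwoNil.isInv_iff.mpr ht
        have hwO : g⁻¹ * t * g * t ∈ O := (QuotientGroup.eq_one_iff _).mp (by
          show π (g⁻¹ * t * g * t) = 1
          rw [map_mul, map_mul, map_mul, map_inv, mul_assoc (π g)⁻¹ (π t) (π g),
            ← mem_centralizer_singleton_iff.mp hy, ← mul_assoc, inv_mul_cancel, one_mul, ← map_mul, hti.2, map_one])
        obtain ⟨v, hv, hvt⟩ := CfsgLib.Bender.OddCore.exists_cent (g := g) hti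
          (hodd.of_dvd_nat (Subgroup.orderOf_dvd_natCard O hwO))
        refine ⟨g * v, mem_centralizer_singleton_iff.mpr hvt, ?_⟩
        rw [map_mul, show π v = 1 from (QuotientGroup.eq_one_iff v).mpr (Subgroup.zpowers_le.mpr hwO hv), mul_one]
      haveI : Group.IsSolvable ((centralizer ({t} : Set G)).map π) :=
        Group.isSolvable_of_surjective (f := π.subgroupMap (centralizer ({t} : Set G)))
          (π.subgroupMap_surjective _)
      exact solvable_sub hle inferInstance
  have hns : ¬ Group.IsSolvable (G ⧸ O) := fun hq' => by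
    haveI := hq'
    haveI : Group.IsSolvable O := CITQuot.solvable_of_odd hodd
    exact hs (Group.isSolvable_of_ker_le_range O.subtype π
      (by rw [hπ, QuotientGroup.ker_mk', Subgroup.range_subtype]))
  obtain ⟨N, hN, ⟨F, i, j, hF, he⟩, hcent⟩ :=
    core_free hA hq (CfsgLib.pPrimeCore_quotient_eq_bot (G := G) 2) hns
  exact ⟨F, i, j, hF, N, hN, he, hcent⟩

end CfsgLib.SolvCentAbelian
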