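import Cfsg.Agent.Lib.Basic
import Cfsg.Agent.Lib.ChzTwoNil.Closed
import Cfsg.Agent.Lib.PSolvable
import Cfsg.Agent.Lib.Bender.TwoClosed.Tools
import Cfsg.Agent.Lib.CIT.Basic
import Cfsg.Agent.S0017
import Cfsg.Agent.S0018
import Cfsg.Agent.S0217

/-!
Abelian Sylow 2-subgroups and solvable involution centralisers: cores of the centralisers and their completion.

Blueprint: `blueprint/bender/S3188.md`.
-/

set_option autoImplicit false
set_option linter.unusedSectionVars false
set_option linter.style.haveILetI false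

namespace CfsgLib.SolvCentAbelian

open Cfsg Subgroup
open CfsgLib.Bender.TwoClosed (conj_mem_of_normalizer mem_normalizer_of_conj)

universe u

variable {G : Type u} [Group G]

/-- The hypotheses. -/
structure Hyp (G : Type u) [Group G] : Prop where
  comm : ∀ P : Sylow 2 G, ∀ a ∈ (P : Subgroup G), ∀ b ∈ (P : Subgroup G), a * b = b * a
  solv : ∀ t : G, orderOf t = 2 → Group.IsSolvable (centralizer ({t} : Set G))

theorem Hyp.of_sylow [Finite G] (S : Sylow 2 G) (hS : IsMulCommutative (S : Subgroup G))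
    (hC : ∀ t : G, orderOf t = 2 → Group.IsSolvable (centralizer ({t} : Set G))) : Hyp G := by
  haveI : Fact (Nat.Prime 2) := ⟨Nat.prime_two⟩
  refine ⟨fun P a ha b hb => ?_, hC⟩
  obtain ⟨g, rfl⟩ := MulAction.exists_smul_eq G S P
  rw [Sylow.coe_subgroup_smul, Subgroup.mem_pointwise_smul_iff_inv_smul_mem, MulAut.smul_def,
    MulAut.conj_inv_apply] at ha hb
  have h := congrArg Subtype.val (hS.is_comm.comm ⟨_, ha⟩ ⟨_, hb⟩)
  have h' : g⁻¹ * a * g * (g⁻¹ * b * g) = g⁻¹ * b * g * (g⁻¹ * a * g) := h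
  calc a * b = g * (g⁻¹ * a * g * (g⁻¹ * b * g)) * g⁻¹ := by group
    _ = g * (g⁻¹ * b * g * (g⁻¹ * a * g)) * g⁻¹ := by rw [h']
    _ = b * a := by group

/-- The odd core of the centraliser, as a subgroup of the group. -/
def core (t : G) : Subgroup G := (oddCore (centralizer ({t} : Set G))).map (centralizer ({t} : Set G)).subtype

theorem core_le (t : G) : core t ≤ centralizer ({t} : Set G) := Subgroup.map_subtype_le _

theorem core_normalised {t b : G} (hb : b * t = t * b) {x : G} (hx : x ∈ core t) : b * x * b⁻¹ ∈ core t := by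
  obtain ⟨y, hy, rfl⟩ := hx
  exact ⟨⟨b, mem_centralizer_singleton_iff.mpr hb⟩ * y * ⟨b, mem_centralizer_singleton_iff.mpr hb⟩⁻¹,
    (inferInstance : (oddCore (centralizer ({t} : Set G))).Normal).conj_mem y hy _, rfl⟩

theorem conj_cent (g t : G) {x : G} (hx : x ∈ centralizer ({t} : Set G)) :
    g * x * g⁻¹ ∈ centralizer ({g * t * g⁻¹} : Set G) :=
  mem_centralizer_singleton_iff.mpr (by rw [conj_mul, conj_mul, mem_centralizer_singleton_iff.mp hx])

variable [Finite G]

theorem odd_core (t : G) : Odd (Nat.card (core t)) := by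
  rw [core, Subgroup.card_map_of_injective (Subgroup.subtype_injective _)]
  exact CfsgLib.odd_card_oddCore

/-- The cores are equivariant. -/
theorem core_conj (g t : G) {x : G} (hx : x ∈ core t) : g * x * g⁻¹ ∈ core (g * t * g⁻¹) := by
  set C := centralizer ({g * t * g⁻¹} : Set G)
  have hle : (core t).map (MulAut.conj g).toMonoidHom ≤ C := by
    rintro _ ⟨y, hy, rfl⟩
    exact conj_cent g t (core_le t hy)
  haveI : ((((core t).map (MulAut.conj g).toMonoidHom)).subgroupOf C).Normal := by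
    refine ⟨fun y hy c => ?_⟩
    obtain ⟨z, hz, hzy⟩ := hy
    have hc : g⁻¹ * (c : G) * g ∈ centralizer ({t} : Set G) := by
      have h := conj_cent g⁻¹ (g * t * g⁻¹) c.2
      simpa [mul_assoc] using h
    refine ⟨g⁻¹ * c * g * z * (g⁻¹ * c * g)⁻¹, core_normalised (mem_centralizer_singleton_iff.mp hc) hz, ?_⟩
    show g * _ * g⁻¹ = (c : G) * y * (c : G)⁻¹
    rw [← show g * z * g⁻¹ = (y : G) from hzy]
    group
  have hodd : Odd (Nat.card ((((core t).map (MulAut.conj g).toMonoidHom)).subgroupOf C)) := by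
    rw [Nat.card_congr (Subgroup.subgroupOfEquivOfLe hle).toEquiv,
      Subgroup.card_map_of_injective (MulAut.conj g).injective]
    exact odd_core t
  exact ⟨⟨g * x * g⁻¹, conj_cent g t (core_le t hx)⟩, CfsgLib.le_oddCore hodd ⟨x, hx, rfl⟩, rfl⟩

variable (h : Hyp G)
include h

/-- A Sylow 2-subgroup centralises each of its elements. -/
theorem sylow_le_cent (S : Sylow 2 G) {a : G} (ha : a ∈ (S : Subgroup G)) :
    (S : Subgroup G) ≤ centralizer ({a} : Set G) :=
  fun s hs => mem_centralizer_singleton_iff.mpr (h.comm S s hs a ha)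

/-- In the centraliser, modulo the core a Sylow subgroup is normal and self-centralising. -/
theorem mem_core_of_normalised {b : G} (hb : orderOf b = 2) (S : Sylow 2 G) (hbS : b ∈ (S : Subgroup G))
    {X : Subgroup G} (hXC : X ≤ centralizer ({b} : Set G)) (hX : Odd (Nat.card X))
    (hSX : ∀ s ∈ (S : Subgroup G), ∀ x ∈ X, s * x * s⁻¹ ∈ X) : X ≤ core b := by
  haveI : Fact (Nat.Prime 2) := ⟨Nat.prime_two⟩
  set C := centralizer ({b} : Set G) with hC
  haveI := h.solv b hb
  set P : Sylow 2 C := S.subtype (sylow_le_cent h S hbS) with hP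
  have hPc : IsMulCommutative (P : Subgroup C) :=
    ⟨⟨fun u v => Subtype.ext (Subtype.ext (h.comm S _ u.2 _ v.2))⟩⟩
  have hn := Cfsg.Agent.S0018.result 2 P hPc
  set π := QuotientGroup.mk' (oddCore C) with hπ
  set T := (P : Subgroup C).map π with hT
  haveI hTn : T.Normal := by
    have h1 : ((P : Subgroup C) ⊔ pPrimeCore 2 C).map π = T := by
      rw [Subgroup.map_sup, show (pPrimeCore 2 C).map π = ⊥ from
        (Subgroup.map_eq_bot_iff _).mpr (by rw [hπ, QuotientGroup.ker_mk']), sup_bot_eq]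
    exact h1 ▸ hn.map π (QuotientGroup.mk'_surjective _)
  have hbot := CfsgLib.pPrimeCore_quotient_eq_bot (G := C) 2
  have hcl := Cfsg.Agent.S0017.result 2 hbot
  intro x hx
  set Y := (X.subgroupOf C).map π with hY
  have hYodd : Odd (Nat.card Y) := hX.of_dvd_nat ((Subgroup.card_map_dvd _ _).trans
    (Nat.card_congr (Subgroup.subgroupOfEquivOfLe hXC).toEquiv).dvd)
  have hYT : ∀ s ∈ T, ∀ y ∈ Y, s * y = y * s := by
    rintro _ ⟨s, hs, rfl⟩ _ ⟨y, hy, rfl⟩
    have h1 : π (s * y * s⁻¹ * y⁻¹) ∈ Y := ⟨s * y * s⁻¹ * y⁻¹, by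
      refine mul_mem ?_ (inv_mem hy)
      exact hSX _ hs _ hy, rfl⟩
    have h2 : π (s * y * s⁻¹ * y⁻¹) ∈ T := by
      rw [map_mul, map_mul, map_mul, map_inv, map_inv, mul_assoc (π s), mul_assoc (π s)]
      exact mul_mem ⟨s, hs, rfl⟩ (hTn.conj_mem _ (inv_mem ⟨s, hs, rfl⟩) _)
    obtain ⟨k, hk⟩ := (P.2.map π) ⟨_, h2⟩
    have h3 := CfsgLib.CIT.eq_one_of_odd_pow_two (hYodd.of_dvd_nat (Subgroup.orderOf_dvd_natCard Y h1))
      (congrArg Subtype.val hk)
    rw [map_mul, map_inv, mul_inv_eq_one, map_mul, map_inv, mul_inv_eq_iff_eq_mul, map_mul] at h3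
    exact h3
  have hxT : π ⟨x, hXC hx⟩ ∈ T := by
    have hcore : pCore 2 (C ⧸ oddCore C) ≤ T := by
      obtain ⟨P', hP'⟩ : ∃ P' : Sylow 2 (C ⧸ oddCore C), (P' : Subgroup (C ⧸ oddCore C)) = T :=
        ⟨P.mapSurjective (QuotientGroup.mk'_surjective _), rfl⟩
      exact hP' ▸ CfsgLib.pCore_le_sylow P'
    have hT2 : T ≤ pCore 2 (C ⧸ oddCore C) := le_sSup ⟨hTn, P.2.map π⟩
    refine hT2.trans' le_rfl |> fun hle => le_antisymm hcore hle ▸ hcl ?_
    rw [Subgroup.mem_centralizer_iff]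
    intro s hs
    exact hYT s (hcore hs) _ ⟨⟨x, hXC hx⟩, hx, rfl⟩
  obtain ⟨k, hk⟩ := (P.2.map π) ⟨_, hxT⟩
  have h1 := CfsgLib.CIT.eq_one_of_odd_pow_two
    (hYodd.of_dvd_nat (Subgroup.orderOf_dvd_natCard Y ⟨⟨x, hXC hx⟩, hx, rfl⟩)) (congrArg Subtype.val hk)
  exact ⟨⟨x, hXC hx⟩, (QuotientGroup.eq_one_iff _).mp h1, rfl⟩

/-- Balance. -/
theorem balanced {a b : G} (hb : orderOf b = 2) (S : Sylow 2 G)
    (haS : a ∈ (S : Subgroup G)) (hbS : b ∈ (S : Subgroup G)) :
    core a ⊓ centralizer ({b} : Set G) ≤ core b := by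
  refine mem_core_of_normalised h hb S hbS inf_le_right
    ((odd_core a).of_dvd_nat (Subgroup.card_dvd_of_le inf_le_left)) fun s hs x hx => ⟨?_, ?_⟩
  · exact core_normalised (h.comm S s hs a haS) hx.1
  · have hsb := h.comm S s hs b hbS
    refine mem_centralizer_singleton_iff.mpr ?_
    have h1 := mem_centralizer_singleton_iff.mp hx.2
    calc s * x * s⁻¹ * b = s * x * (s⁻¹ * b) := by group
      _ = s * x * (b * s⁻¹) := by rw [(Commute.inv_left hsb).eq]
      _ = s * (x * b) * s⁻¹ := by group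
      _ = s * (b * x) * s⁻¹ := by rw [h1]
      _ = s * b * x * s⁻¹ := by group
      _ = b * s * x * s⁻¹ := by rw [hsb]
      _ = _ := by group

/-- The centraliser is the core times the normaliser of a Sylow subgroup. -/
theorem cent_le {a : G} (ha : orderOf a = 2) (S : Sylow 2 G) (haS : a ∈ (S : Subgroup G)) :
    centralizer ({a} : Set G) ≤ core a ⊔ Subgroup.normalizer ((S : Subgroup G) : Set G) := by
  haveI : Fact (Nat.Prime 2) := ⟨Nat.prime_two⟩
  set C := centralizer ({a} : Set G) with hC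
  haveI := h.solv a ha
  set P : Sylow 2 C := S.subtype (sylow_le_cent h S haS) with hP
  haveI : ((P : Subgroup C) ⊔ pPrimeCore 2 C).Normal :=
    Cfsg.Agent.S0018.result 2 P ⟨⟨fun u v => Subtype.ext (Subtype.ext (h.comm S _ u.2 _ v.2))⟩⟩
  set M := (P : Subgroup C) ⊔ pPrimeCore 2 C with hM
  have hPM : (P : Subgroup C) ≤ M := le_sup_left
  have htop : Subgroup.normalizer ((P : Subgroup C) : Set C) ⊔ M = ⊤ := Sylow.normalizer_sup_eq_top' P hPM
  intro x hx
  have h1 : (⟨x, hx⟩ : C) ∈ Subgroup.normalizer ((P : Subgroup C) : Set C) ⊔ pPrimeCore 2 C := by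
    have : Subgroup.normalizer ((P : Subgroup C) : Set C) ⊔ pPrimeCore 2 C = ⊤ :=
      top_unique (htop ▸ sup_le le_sup_left (sup_le (Subgroup.le_normalizer.trans le_sup_left) le_sup_right))
    rw [this]
    exact Subgroup.mem_top _
  have h2 := Subgroup.mem_map_of_mem C.subtype h1
  rw [Subgroup.map_sup] at h2
  refine (show Subgroup.map C.subtype (Subgroup.normalizer ((P : Subgroup C) : Set C)) ⊔ core a ≤
    core a ⊔ Subgroup.normalizer ((S : Subgroup G) : Set G) from sup_le ?_ le_sup_left) h2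
  rintro _ ⟨n, hn, rfl⟩
  refine Subgroup.mem_sup_right (mem_normalizer_of_conj fun s hs => ?_)
  have h3 := conj_mem_of_normalizer hn (show (⟨s, sylow_le_cent h S haS hs⟩ : C) ∈ (P : Subgroup C) from hs)
  exact h3

end CfsgLib.SolvCentAbelian
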