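import Cfsg.Agent.Lib.SolvCentAbelian.Balance
import Cfsg.Agent.Lib.MinNonCA.AbelianFinal
import Cfsg.Agent.Lib.SuzukiTwo.UnitarySixty
import Cfsg.Agent.S0516
import Cfsg.Agent.S0483

/-!
The simple groups of two-rank at most two among those with abelian Sylow 2-subgroups.

Blueprint: `blueprint/bender/S3188.md`.
-/

set_option autoImplicit false
set_option linter.unusedSectionVars false
set_option linter.style.haveILetI false

namespace CfsgLib.SolvCentAbelian

open Cfsg Subgroup
open scoped MatrixGroups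

universe u

/-- The list of conclusions. -/
def IsTarget (N : Type u) [Group N] : Prop :=
  ∃ (F : Type) (_ : Field F) (_ : Fintype F),
    (((Fintype.card F % 8 = 3 ∨ Fintype.card F % 8 = 5) ∧ 5 ≤ Fintype.card F) ∨
      (∃ n : ℕ, 2 ≤ n ∧ Fintype.card F = 2 ^ n)) ∧
    Nonempty (N ≃* Matrix.ProjectiveSpecialLinearGroup (Fin 2) F)

theorem mod_eight {q : ℕ} (hodd : Odd q) (h : ¬ 16 ∣ q ^ 2 - 1) : q % 8 = 3 ∨ q % 8 = 5 := by
  obtain ⟨j, rfl⟩ := hodd
  by_contra hne
  push Not at hne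
  refine h ?_
  have h8 : (2 * j + 1) % 8 = 1 ∨ (2 * j + 1) % 8 = 7 := by omega
  obtain ⟨d, hd⟩ : ∃ d, j * (j + 1) = 4 * d := by
    rcases h8 with h8 | h8
    · exact ⟨j / 4 * (j + 1), by rw [← mul_assoc, show 4 * (j / 4) = j by omega]⟩
    · exact ⟨j * ((j + 1) / 4), by rw [mul_left_comm, show 4 * ((j + 1) / 4) = j + 1 by omega]⟩
  exact ⟨d, Nat.sub_eq_of_eq_add (by nlinarith)⟩

variable {G : Type u} [Group G] [Finite G] [IsSimpleGroup G]

theorem rank_two (hG : ¬ IsMulCommutative G) (h : Hyp G) (h2 : PRankLE 2 2 G) : IsTarget G := by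
  haveI : Fact (Nat.Prime 2) := ⟨Nat.prime_two⟩
  letI : Fintype (GaloisField 2 4) := Fintype.ofFinite _
  have h16 : Fintype.card (GaloisField 2 4) = 16 := by
    rw [← Nat.card_eq_fintype_card, GaloisField.card 2 4 (by norm_num)]
    norm_num
  obtain ⟨P⟩ : Nonempty (Sylow 2 (Cfsg.PSU 3 (GaloisField 2 4) 4)) := inferInstance
  obtain ⟨S⟩ : Nonempty (Sylow 2 G) := inferInstance
  have hc : ∀ a b : (S : Subgroup G), a * b = b * a := fun a b => Subtype.ext (h.comm S a a.2 b b.2)
  rcases Cfsg.Agent.S0516.result hG h2 S h16 P with ⟨n, hn, he⟩ | ⟨n, hn, -, x, y, hx, -, hxy⟩ |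
      ⟨n, hn, -, x, y, z, hx, -, hbot, -, hz⟩ | he
  · obtain ⟨e⟩ := he
    haveI : NeZero n := ⟨by omega⟩
    have hn2 : n = 2 := by
      have h1 : e (e.symm (DihedralGroup.sr 0) * e.symm (DihedralGroup.r 1)) =
          e (e.symm (DihedralGroup.r 1) * e.symm (DihedralGroup.sr 0)) := by rw [hc]
      simp only [map_mul, MulEquiv.apply_symm_apply, DihedralGroup.sr_mul_r, DihedralGroup.r_mul_sr,
        DihedralGroup.sr.injEq, zero_add, zero_sub] at h1
      have h2 : ((2 : ℕ) : ZMod n) = 0 := by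
        rw [show (2 : ℕ) = 1 + 1 from rfl, Nat.cast_add, Nat.cast_one]
        nth_rw 2 [h1]
        exact add_neg_cancel 1
      exact le_antisymm (Nat.le_of_dvd two_pos ((ZMod.natCast_eq_zero_iff 2 n).mp h2)) hn
    have hS4 : Nat.card (S : Subgroup G) = 4 := by
      rw [Nat.card_congr e.toEquiv, DihedralGroup.nat_card, hn2]
    have h8 : ¬ 8 ∣ Nat.card G := fun hd => by
      have h1 := S.pow_dvd_card_of_pow_dvd_card (n := 3) (by norm_num; exact hd)
      rw [hS4] at h1
      norm_num at h1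
    have hperf : commutator G = ⊤ := by
      rcases (Subgroup.Normal.eq_bot_or_eq_top (inferInstance : (commutator G).Normal)) with h0 | h0
      · exact absurd ⟨⟨fun a b => commutatorElement_eq_one_iff_mul_comm.mp ((Subgroup.mem_bot).mp
          (h0 ▸ Subgroup.commutator_mem_commutator (Subgroup.mem_top a) (Subgroup.mem_top b)))⟩⟩ hG
      · exact h0
    haveI : Group.IsPerfect G := ⟨hperf⟩
    have hbot : oddCore G = ⊥ := by
      rcases (inferInstance : (oddCore G).Normal).eq_bot_or_eq_top with h0 | h0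
      · exact h0
      · have h1 := CfsgLib.odd_card_oddCore (G := G)
        rw [h0, Subgroup.card_top] at h1
        have h3 : 2 ∣ Nat.card G := (show 2 ∣ Nat.card (S : Subgroup G) by rw [hS4]; norm_num).trans
          (Subgroup.card_subgroup_dvd_card _)
        exact absurd (even_iff_two_dvd.mpr h3) (Nat.not_even_iff_odd.mpr h1)
    let q : G ⧸ oddCore G ≃* G := (QuotientGroup.quotientMulEquivOfEq hbot).trans QuotientGroup.quotientBot
    rcases Cfsg.Agent.S0483.result S n hn ⟨e⟩ with ⟨F, iF, iFt, hodd, h3, ⟨e'⟩⟩ | hA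
    · refine ⟨F, iF, iFt, Or.inl ⟨mod_eight hodd fun hd => h8 ?_, ?_⟩, ⟨q.symm.trans e'⟩⟩
      · rw [Nat.card_congr (q.symm.trans e').toEquiv]
        exact MinNonCA.sixteen_dvd_of_not hodd hd
      · obtain ⟨j, hj⟩ := hodd
        omega
    · obtain ⟨e'⟩ := hA
      refine absurd ?_ h8
      rw [Nat.card_congr (q.symm.trans e').toEquiv, nat_card_alternatingGroup, Nat.card_fin]
      norm_num [Nat.factorial]
  · exfalso
    rw [hc y x, mul_inv_cancel_right] at hxy
    have h1 : x ^ (2 ^ (n - 1) - 1) = x ^ 1 := by rw [← hxy, pow_one]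
    rw [pow_eq_pow_iff_modEq, hx] at h1
    obtain ⟨k, rfl⟩ : ∃ k, n = k + 3 := ⟨n - 3, by omega⟩
    have e1 : 2 ^ (k + 3 - 1) = 4 * 2 ^ k := by rw [show k + 3 - 1 = k + 2 by omega, pow_add]; ring
    have e2 : 2 ^ (k + 3) = 8 * 2 ^ k := by rw [pow_add]; ring
    have hp := Nat.two_pow_pos k
    have h2 : (4 * 2 ^ k - 1) % (8 * 2 ^ k) = 1 % (8 * 2 ^ k) := by rwa [e1, e2] at h1
    rw [Nat.mod_eq_of_lt (by omega), Nat.mod_eq_of_lt (by omega)] at h2
    omega
  · exfalso
    rw [hc z x, mul_inv_cancel_right] at hz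
    rw [← hz, inf_idem, Subgroup.zpowers_eq_bot] at hbot
    rw [hbot, orderOf_one] at hx
    exact absurd hx.symm (Nat.one_lt_two_pow (by omega)).ne'
  · exfalso
    obtain ⟨e⟩ := he
    have hP := CfsgLib.SuzukiTwo.sixty h16 P
    have htop : Subgroup.center (P : Subgroup (Cfsg.PSU 3 (GaloisField 2 4) 4)) = ⊤ := by
      refine (Subgroup.eq_top_iff' _).mpr fun a => Subgroup.mem_center_iff.mpr fun b => ?_
      obtain ⟨a, rfl⟩ := e.surjective a
      obtain ⟨b, rfl⟩ := e.surjective b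
      rw [← map_mul, hc, map_mul]
    have h1 := hP.card_center
    rw [htop, Subgroup.card_top, hP.card] at h1
    norm_num at h1

end CfsgLib.SolvCentAbelian
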