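import Cfsg.Agent.Lib.SolvCentAbelian.Rank
import Cfsg.Agent.Lib.AbelianSylowInvolutions
import Cfsg.Agent.Lib.ChzTwoNil.Eight
import Cfsg.Agent.Lib.Bender.Assembly
import Cfsg.Agent.Lib.BinaryCoset.Families
import Cfsg.Agent.Lib.BinaryCoset.Main

/-!
The simple groups with abelian Sylow 2-subgroups and solvable involution centralisers, from Bender's theorem.

Blueprint: `blueprint/bender/S3188.md`.
-/

set_option autoImplicit false
set_option linter.unusedSectionVars false
set_option linter.style.haveILetI false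

namespace CfsgLib.SolvCentAbelian

open Cfsg Subgroup
open CfsgLib.Bender.TwoClosed (conj_mem_of_normalizer mem_normalizer_of_conj)
open CfsgLib.AbelianInvolutions (invol)

universe u

variable {G : Type u} [Group G] [Finite G] [IsSimpleGroup G]

section Completion

variable (h : Hyp G) (S : Sylow 2 G)

/-- The group generated by the cores. -/
def compl : Subgroup G := ⨆ a : {a : G // (a ∈ (S : Subgroup G) ∧ a ^ 2 = 1) ∧ a ≠ 1}, core (a : G)

theorem core_le_compl {a : G} (haS : a ∈ (S : Subgroup G)) (ha : orderOf a = 2) : core a ≤ compl S :=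
  le_iSup (fun a : {a : G // (a ∈ (S : Subgroup G) ∧ a ^ 2 = 1) ∧ a ≠ 1} => core (a : G))
    ⟨a, ⟨haS, ha ▸ pow_orderOf_eq_one a⟩, fun e => by rw [e, orderOf_one] at ha; norm_num at ha⟩

include h

theorem normalizer_le : Subgroup.normalizer ((S : Subgroup G) : Set G) ≤ Subgroup.normalizer (compl S : Set G) := by
  intro n hn
  refine mem_normalizer_of_conj ?_
  suffices hle : compl S ≤ (compl S).comap (MulAut.conj n).toMonoidHom from fun x hx => hle hx
  refine iSup_le fun a x hx => ?_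
  obtain ⟨a, ⟨⟨haS, ha2⟩, ha1⟩⟩ := a
  refine core_le_compl (a := n * a * n⁻¹) S (conj_mem_of_normalizer hn haS) ?_ (core_conj n a hx)
  rw [CfsgLib.Involutions.orderOf_conj]
  exact orderOf_eq_prime ha2 ha1

theorem centralizer_le {a : G} (haS : a ∈ (S : Subgroup G)) (ha : orderOf a = 2) :
    centralizer ({a} : Set G) ≤ Subgroup.normalizer (compl S : Set G) :=
  (cent_le h ha S haS).trans (sup_le ((core_le_compl S haS ha).trans Subgroup.le_normalizer) (normalizer_le h S))

theorem odd_compl (hr : ¬ PRankLE 2 2 G) : Odd (Nat.card (compl S)) := by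
  haveI : Fact (Nat.Prime 2) := ⟨Nat.prime_two⟩
  haveI : IsMulCommutative (S : Subgroup G) := ⟨⟨fun a b => Subtype.ext (h.comm S a a.2 b b.2)⟩⟩
  obtain ⟨E, hE⟩ := ChzTwoNil.exists_eight_of_rank hr
  obtain ⟨T, hET⟩ := (ChzTwoNil.isPGroup_of_exp hE.2).exists_le_sylow
  obtain ⟨g, rfl⟩ := MulAction.exists_smul_eq G S T
  have hle : E.map (MulAut.conj g⁻¹).toMonoidHom ≤ invol (S : Subgroup G) := by
    rintro _ ⟨e, he, rfl⟩
    refine ⟨?_, by rw [← map_pow, hE.2 e he, map_one]⟩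
    have h1 := hET he
    rw [Sylow.coe_subgroup_smul, Subgroup.mem_pointwise_smul_iff_inv_smul_mem, MulAut.smul_def,
      MulAut.conj_inv_apply] at h1
    simpa [mul_assoc] using h1
  have h8 : 2 ^ 3 ≤ Nat.card (invol (S : Subgroup G)) := by
    have h1 := Subgroup.card_le_of_le hle
    rw [Subgroup.card_map_of_injective (MulAut.conj g⁻¹).injective, hE.1] at h1
    norm_num
    exact h1
  have hord : ∀ a ∈ invol (S : Subgroup G), a ≠ 1 → orderOf a = 2 := fun a ha h1 => orderOf_eq_prime ha.2 h1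
  obtain ⟨h1, -⟩ := Cfsg.Agent.S0217.result (p := 2) (invol (S : Subgroup G))
    (fun a ha b hb => h.comm S a ha.1 b hb.1) (fun a ha => ha.2) h8 core (fun a _ _ => core_le a)
    (fun a _ _ hd => Nat.not_even_iff_odd.mpr (odd_core a) (even_iff_two_dvd.mpr hd))
    (fun a ha _ b hb x hx => core_normalised (h.comm S b hb.1 a ha.1) hx)
    (fun a _ _ => CITQuot.solvable_of_odd (odd_core a))
    (fun a ha _ b hb hb1 => balanced h (hord b hb hb1) S ha.1 hb.1)
  exact Nat.odd_iff.mpr (Nat.two_dvd_ne_zero.mp h1)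

/-- A conjugate involution of a Sylow subgroup and a subgroup containing the centralisers. -/
theorem mem_of_conj {H : Subgroup G} (hN : Subgroup.normalizer ((S : Subgroup G) : Set G) ≤ H)
    (hC : ∀ a ∈ (S : Subgroup G), orderOf a = 2 → centralizer ({a} : Set G) ≤ H) {a g : G}
    (ha : a ∈ (S : Subgroup G)) (ha2 : orderOf a = 2) (hga : g * a * g⁻¹ ∈ (S : Subgroup G)) : g ∈ H := by
  haveI : Fact (Nat.Prime 2) := ⟨Nat.prime_two⟩
  set b := g * a * g⁻¹
  have hb2 : orderOf b = 2 := by rw [CfsgLib.Involutions.orderOf_conj]; exact ha2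
  set C := centralizer ({b} : Set G)
  have hgS : ((g • S : Sylow 2 G) : Subgroup G) ≤ C := by
    intro s hs
    rw [Sylow.coe_subgroup_smul, Subgroup.mem_pointwise_smul_iff_inv_smul_mem, MulAut.smul_def,
      MulAut.conj_inv_apply] at hs
    have h1 := conj_cent g a (sylow_le_cent h S ha hs)
    simpa [C, b, mul_assoc] using h1
  obtain ⟨c, hc⟩ := MulAction.exists_smul_eq C ((g • S : Sylow 2 G).subtype hgS) (S.subtype (sylow_le_cent h S hga))
  have hcg : ((c : G) * g) • S = S := by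
    refine Sylow.ext ((((c : G) * g) • S : Sylow 2 G).is_maximal' S.2 ?_).symm
    intro s hs
    rw [Sylow.coe_subgroup_smul, Subgroup.mem_pointwise_smul_iff_inv_smul_mem, MulAut.smul_def,
      MulAut.conj_inv_apply] at hs
    have hsC : (c : G)⁻¹⁻¹ * (g * ((↑c * g)⁻¹ * s * (↑c * g)) * g⁻¹) * (c : G)⁻¹ = s := by group
    have h1 : g * ((↑c * g)⁻¹ * s * (↑c * g)) * g⁻¹ ∈ ((g • S : Sylow 2 G) : Subgroup G) := by
      rw [Sylow.coe_subgroup_smul, Subgroup.mem_pointwise_smul_iff_inv_smul_mem, MulAut.smul_def,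
        MulAut.conj_inv_apply]
      simpa [mul_assoc] using hs
    have h2 : c * ⟨_, hgS h1⟩ * c⁻¹ ∈ (S.subtype (sylow_le_cent h S hga) : Subgroup C) := by
      rw [← hc, Sylow.coe_subgroup_smul, Subgroup.mem_pointwise_smul_iff_inv_smul_mem, MulAut.smul_def,
        MulAut.conj_inv_apply, show c⁻¹ * (c * (⟨_, hgS h1⟩ : C) * c⁻¹) * c = ⟨_, hgS h1⟩ by group]
      exact h1
    rw [inv_inv] at hsC
    exact hsC ▸ h2
  have h1 := hN (CyclicInt.smul_eq_iff_normalizer.mp hcg)
  have h2 : (c : G) ∈ H := hC b hga hb2 c.2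
  simpa using H.mul_mem (H.inv_mem h2) h1

theorem strongly {H : Subgroup G} (hne : H ≠ ⊤) (hN : Subgroup.normalizer ((S : Subgroup G) : Set G) ≤ H)
    (hC : ∀ a ∈ (S : Subgroup G), orderOf a = 2 → centralizer ({a} : Set G) ≤ H)
    (he : ∃ a ∈ (S : Subgroup G), orderOf a = 2) : IsStronglyEmbedded H := by
  haveI : Fact (Nat.Prime 2) := ⟨Nat.prime_two⟩
  have hSH : (S : Subgroup G) ≤ H := Subgroup.le_normalizer.trans hN
  refine ⟨hne, ?_, fun g hg => Nat.not_even_iff_odd.mp fun hev => hg ?_⟩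
  · obtain ⟨a, ha, ha2⟩ := he
    rw [even_iff_two_dvd, ← ha2]
    exact Subgroup.orderOf_dvd_natCard H (hSH ha)
  obtain ⟨t, ht⟩ := exists_prime_orderOf_dvd_card' (G := ↥(H ⊓ H.map (MulAut.conj g).toMonoidHom)) 2
    (even_iff_two_dvd.mp hev)
  have key : ∀ u : G, u ∈ H → orderOf u = 2 → ∃ k ∈ H, k * u * k⁻¹ ∈ (S : Subgroup G) := by
    intro u huH hu
    have hpu : IsPGroup 2 (Subgroup.zpowers (⟨u, huH⟩ : H)) := IsPGroup.of_card (n := 1)
      (by rw [Nat.card_zpowers, Subgroup.orderOf_mk, pow_one]; exact hu)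
    obtain ⟨T, hT⟩ := hpu.exists_le_sylow
    obtain ⟨k, hk⟩ := MulAction.exists_smul_eq H T (S.subtype hSH)
    refine ⟨k, k.2, ?_⟩
    have h1 : k * ⟨u, huH⟩ * k⁻¹ ∈ (S.subtype hSH : Subgroup H) := by
      rw [← hk, Sylow.coe_subgroup_smul, Subgroup.mem_pointwise_smul_iff_inv_smul_mem, MulAut.smul_def,
        MulAut.conj_inv_apply]
      simpa [mul_assoc] using hT (Subgroup.mem_zpowers _)
    exact h1
  obtain ⟨y, hy, hye⟩ := t.2.2
  have hy' : g * y * g⁻¹ = t.1 := by rw [← hye]; rfl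
  have ht2 : orderOf (t : G) = 2 := (Subgroup.orderOf_coe t).trans ht
  have hy2 : orderOf y = 2 := by rw [← ht2, ← hy', CfsgLib.Involutions.orderOf_conj]
  obtain ⟨k, hk, hka⟩ := key t t.2.1 ht2
  obtain ⟨l, hl, hla⟩ := key y hy hy2
  have h2 := mem_of_conj h S hN hC (g := k * g * l⁻¹) hla (by rw [CfsgLib.Involutions.orderOf_conj]; exact hy2) (by
    rw [show k * g * l⁻¹ * (l * y * l⁻¹) * (k * g * l⁻¹)⁻¹ = k * (g * y * g⁻¹) * k⁻¹ by group, hy']
    exact hka)
  rw [show g = k⁻¹ * (k * g * l⁻¹) * l by group]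
  exact H.mul_mem (H.mul_mem (H.inv_mem hk) h2) hl

theorem compl_eq_bot (hA : CfsgLib.Bender.Assembly.GoodAll.{u}) (hr : ¬ PRankLE 2 2 G) : compl S = ⊥ := by
  haveI : Fact (Nat.Prime 2) := ⟨Nat.prime_two⟩
  have hodd := odd_compl h S hr
  have h2G : 2 ∣ Nat.card G := by
    obtain ⟨E, hE⟩ := ChzTwoNil.exists_eight_of_rank hr
    exact (show 2 ∣ Nat.card E by rw [hE.1]; norm_num).trans (Subgroup.card_subgroup_dvd_card E)
  have hnot : ∀ W : Subgroup G, Odd (Nat.card W) → W ≠ ⊤ := fun W hW e => by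
    rw [e, Subgroup.card_top] at hW
    exact Nat.not_even_iff_odd.mpr hW (even_iff_two_dvd.mpr h2G)
  by_cases hne : Subgroup.normalizer (compl S : Set G) = ⊤
  · exact (Subgroup.normalizer_eq_top_iff.mp hne).eq_bot_or_eq_top.resolve_right (hnot _ hodd)
  set H := Subgroup.normalizer (compl S : Set G) with hH
  have hse : IsStronglyEmbedded H := by
    refine strongly h S hne (normalizer_le h S) (fun a ha ha2 => centralizer_le h S ha ha2) ?_
    obtain ⟨s, hs⟩ := exists_prime_orderOf_dvd_card' (G := (S : Subgroup G)) 2 (by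
      have h1 := S.pow_dvd_card_of_pow_dvd_card (n := 1) (by simpa using h2G)
      simpa using h1)
    exact ⟨s, s.2, (Subgroup.orderOf_coe s).trans hs⟩
  haveI : ((compl S).subgroupOf H).Normal := Subgroup.normal_in_normalizer
  have h1 : (compl S).subgroupOf H ≤ oddCore H := CfsgLib.le_oddCore (by
    rwa [Nat.card_congr (Subgroup.subgroupOfEquivOfLe Subgroup.le_normalizer).toEquiv])
  have h2 := (Subgroup.map_mono (f := H.subtype) h1).trans (CfsgLib.Bender.Assembly.oddCore_le hA hse)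
  rw [Subgroup.map_subgroupOf_eq_of_le Subgroup.le_normalizer] at h2
  exact le_bot_iff.mp (h2.trans ((inferInstance : (oddCore G).Normal).eq_bot_or_eq_top.resolve_right
    (hnot _ CfsgLib.odd_card_oddCore)).le)

end Completion

/-- The Sylow 2-subgroups intersect trivially. -/
theorem ti (h : Hyp G) (hA : CfsgLib.Bender.Assembly.GoodAll.{u}) (hr : ¬ PRankLE 2 2 G) : CyclicInt.TI G := by
  haveI : Fact (Nat.Prime 2) := ⟨Nat.prime_two⟩
  intro S T x hx hxS hxT
  have hx2 : orderOf x = 2 := CyclicInt.inv2_iff.mp hx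
  have h1 : centralizer ({x} : Set G) ≤ Subgroup.normalizer ((S : Subgroup G) : Set G) := by
    refine (cent_le h hx2 S hxS).trans (sup_le ?_ le_rfl)
    exact ((core_le_compl S hxS hx2).trans (compl_eq_bot h S hA hr).le).trans bot_le
  have hTS : (T : Subgroup G) ≤ S := by
    have h2 := (sylow_le_cent h T hxT).trans h1
    have h3 := T.isPGroup'.inf_normalizer_sylow S
    exact (le_inf le_rfl h2).trans (h3.le.trans inf_le_right)
  exact Sylow.ext (T.is_maximal' S.isPGroup' hTS)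

/-- The simple groups. -/
theorem simple_target (hA : CfsgLib.Bender.Assembly.GoodAll.{u}) (hG : ¬ IsMulCommutative G) (h : Hyp G) :
    IsTarget G := by
  haveI : Fact (Nat.Prime 2) := ⟨Nat.prime_two⟩
  by_cases hr : PRankLE 2 2 G
  · exact rank_two hG h hr
  obtain ⟨S⟩ : Nonempty (Sylow 2 G) := inferInstance
  obtain ⟨t, c⟩ := BinaryCoset.exists_ctx hG (ti h hA hr) S
  have hel : ∀ x ∈ (S : Subgroup G), x * x = 1 := by
    rcases c.concl.2.1 with hs | ⟨⟨x, hx, y, hy, hne⟩, -⟩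
    · exact hs
    · exact absurd (h.comm S x hx y hy) hne
  have hZ := c.Z_eq_of_elementary hel
  rcases c.target with ⟨F, i, j, ⟨n, hn, hF⟩, he⟩ | hsz | ⟨F, i, j, n, hn, hF, ⟨e⟩⟩
  · exact ⟨F, i, j, Or.inr ⟨n, hn, hF⟩, he⟩
  · exfalso
    obtain ⟨F, i, j, m, hm, hF, ⟨e⟩⟩ := hsz
    have hc := (Cfsg.Agent.S1163.result hm hF).1
    rw [← Nat.card_congr e.toEquiv] at hc
    obtain ⟨r, hr'⟩ : ∃ r, 2 ^ (2 * m + 1) = 2 * r + 2 := ⟨2 ^ (2 * m) - 1, by
      have := Nat.one_le_two_pow (n := 2 * m)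
      rw [pow_succ]; omega⟩
    rw [show 2 ^ (2 * m + 1) - 1 = 2 * r + 1 by omega, mul_assoc, ← pow_mul] at hc
    have hS : Nat.card (S : Subgroup G) = 2 ^ ((2 * m + 1) * 2) := BinaryCoset.card_sylow_two hc
      ((odd_two_mul_add_one r).mul (Nat.even_pow.mpr ⟨even_two, by omega⟩ : Even (2 ^ ((2 * m + 1) * 2))).add_one) S
    have hD : Nat.card (CfsgLib.RankOne.D S t) = 2 * r + 1 := by
      have h1 := c.card_group
      rw [hc, hS] at h1
      exact (Nat.eq_of_mul_eq_mul_right (by omega)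
        (Nat.eq_of_mul_eq_mul_left (by positivity) h1)).symm
    have hdvd := c.Z_sub_one_dvd
    rw [hD, hZ, hS] at hdvd
    have hle := Nat.le_of_dvd (by omega) hdvd
    have : 2 * (2 * r + 2) ≤ 2 ^ ((2 * m + 1) * 2) := by
      rw [pow_mul, hr', pow_two]; exact Nat.mul_le_mul_right _ (by omega)
    omega
  · exfalso
    obtain ⟨-, cj, iC, hq, ⟨e'⟩⟩ := BinaryCoset.ti_psu hn hF e
    haveI := iC
    obtain ⟨T, -, hT, hTZ⟩ := BinaryCoset.exists_sylow_model cj
    obtain ⟨h1, h2⟩ := BinaryCoset.card_sq_one_sylow e' S T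
    have hS : Nat.card (S : Subgroup G) = cj.q ^ 3 := h1.trans hT
    have hq' : Nat.card (S : Subgroup G) = cj.q := by
      rw [← hTZ, ← h2]
      exact Nat.card_congr (Equiv.subtypeUnivEquiv fun x : (S : Subgroup G) => Subtype.ext (hel x x.2)).symm
    rw [hS] at hq'
    have h4 : 1 < cj.q := cj.one_lt
    exact (show cj.q < cj.q ^ 3 by
      calc cj.q = cj.q ^ 1 := (pow_one _).symm
        _ < cj.q ^ 3 := Nat.pow_lt_pow_right h4 (by omega)).ne' hq'

end CfsgLib.SolvCentAbelian
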